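import Groth.Agent.S0384
import Groth.Agent.S7803
import Groth.Agent.L06.Unibranch
import Groth.Agent.L20.Chevalley.Birat
import Groth.Agent.L05.Point.BaseChange
import Groth.Agent.L05.Point.UnramFlat
import Groth.Prelude.Def_Pi1
import Mathlib.AlgebraicGeometry.Morphisms.Flat
import Mathlib.AlgebraicGeometry.Morphisms.UniversallyOpen
import Mathlib.AlgebraicGeometry.IdealSheaf.Functorial

/-!
# Proper fibres over a normal base

A separated morphism of finite type from an integral scheme to a normal Noetherian integral
scheme whose geometric fibres are proper and connected is proper.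
-/

set_option autoImplicit false
set_option linter.style.haveILetI false

universe u

open CategoryTheory CategoryTheory.Limits AlgebraicGeometry

noncomputable section

namespace Groth.L27.ProperFibres

theorem isGeomUnibranch_of_isIntegrallyClosed (A : Type u) [CommRing A] [IsLocalRing A] [IsDomain A]
    [IsIntegrallyClosed A] : CAlg2.IsGeomUnibranch A := by
  refine (Groth.L06.Unibranch.isGeomUnibranch_iff (RingHom.id A) (fun x => RingHom.isIntegralElem_map _)
    (fun x hx => ?_) (fun x => ⟨1, x, by simp, by simp⟩)).2
    ⟨inferInstance, fun P _ x => ⟨0, x, by simp⟩⟩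
  rw [RingHom.mem_ker, RingHom.id_apply] at hx
  subst hx
  exact Ideal.zero_mem _

variable {X Xc Y : Scheme.{u}}

/-- The comparison of the fibres of `f` and `g` over a geometric point. -/
abbrev fibreMap (f : X ⟶ Y) (g : Xc ⟶ Y) (j : X ⟶ Xc) (hjg : j ≫ g = f) {T : Scheme.{u}} (t : T ⟶ Y) :
    pullback f t ⟶ pullback g t :=
  pullback.map f t g t j (𝟙 T) (𝟙 Y) (by simp [hjg]) (by simp)

theorem range_fibreMap_clopen (f : X ⟶ Y) (g : Xc ⟶ Y) (j : X ⟶ Xc) (hjg : j ≫ g = f) [IsOpenImmersion j]
    [IsSeparated g] {T : Scheme.{u}} (t : T ⟶ Y) [IsProper (pullback.snd f t)] :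
    IsOpenImmersion (fibreMap f g j hjg t) ∧ IsClopen (Set.range (fibreMap f g j hjg t)) := by
  have hm : fibreMap f g j hjg t ≫ pullback.snd g t = pullback.snd f t :=
    (pullback.lift_snd _ _ _).trans (Category.comp_id _)
  haveI : IsOpenImmersion (fibreMap f g j hjg t) := inferInstance
  haveI : IsProper (fibreMap f g j hjg t) := by
    have : IsProper (fibreMap f g j hjg t ≫ pullback.snd g t) := hm ▸ inferInstance
    exact IsProper.of_comp (fibreMap f g j hjg t) (pullback.snd g t)
  exact ⟨inferInstance, (fibreMap f g j hjg t).isClosedMap.isClosed_range,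
    (fibreMap f g j hjg t).isOpenEmbedding.isOpen_range⟩

/-- The generic geometric fibre is dense in the generic geometric fibre of a compactification. -/
theorem surjective_fibreMap_generic (f : X ⟶ Y) (g : Xc ⟶ Y) (j : X ⟶ Xc) (hjg : j ≫ g = f) [IsOpenImmersion j]
    [IsSeparated g] [IsIntegral Xc] [Nonempty X] {T : Scheme.{u}} (t : T ⟶ Y) [Flat t]
    [IsProper (pullback.snd f t)] :
    Function.Surjective (fibreMap f g j hjg t) := by
  obtain ⟨-, hcl⟩ := range_fibreMap_clopen f g j hjg t
  intro z
  by_contra hz
  have hgen : GeneralizingMap (pullback.fst g t) := Flat.generalizingMap _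
  obtain ⟨z', hz', hzη⟩ := hgen (genericPoint_specializes (pullback.fst g t z))
  have hzr : z' ∉ Set.range (fibreMap f g j hjg t) := fun h => hz (hz'.mem_closed hcl.isClosed h)
  have hj : genericPoint Xc ∈ Set.range j :=
    ((genericPoint_spec Xc).mem_open_set_iff j.isOpenEmbedding.isOpen_range).2
      (by simpa [Set.univ_inter] using Set.range_nonempty j)
  refine hzr ?_
  rw [Scheme.Pullback.range_map]
  exact ⟨by rw [Set.mem_preimage, hzη]; exact hj, by simp⟩

/-- `GeometricallyConnected` over a field can be tested on algebraically closed extensions. -/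
theorem geometricallyConnected_of_algClosed {K : Type u} [Field K] {Z : Scheme.{u}} (p : Z ⟶ Spec (CommRingCat.of K))
    (h : ∀ (Ω : Type u) [Field Ω] [IsAlgClosed Ω] (t : Spec (CommRingCat.of Ω) ⟶ Spec (CommRingCat.of K)),
      ConnectedSpace ↥(pullback p t)) : GeometricallyConnected p := by
  refine ⟨fun L _ y Z' fst snd hZ' => ?_⟩
  let Ω := AlgebraicClosure L
  let e : Spec (CommRingCat.of Ω) ⟶ Spec (CommRingCat.of L) := Spec.map (CommRingCat.ofHom (algebraMap L Ω))
  haveI : Surjective e := by
    haveI : Subsingleton ↥(Spec (CommRingCat.of L)) := inferInstanceAs (Subsingleton (PrimeSpectrum L))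
    exact ⟨fun x => ⟨default, Subsingleton.elim _ _⟩⟩
  haveI : ConnectedSpace ↥(pullback p (e ≫ y)) := h Ω _
  have h2 : IsPullback (pullback.fst snd e ≫ fst) (pullback.snd snd e) p (e ≫ y) :=
    (IsPullback.of_hasPullback snd e).paste_horiz hZ'
  haveI : ConnectedSpace ↥(pullback snd e) :=
    h2.isoPullback.hom.homeomorph.connectedSpace_iff.2 inferInstance
  have hs : Function.Surjective (pullback.fst snd e) := Scheme.Hom.surjective _
  exact hs.connectedSpace (pullback.fst snd e).continuous

/-- Proper connected geometric fibres over a normal base give properness. -/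
theorem isProper (f : X ⟶ Y) [IsSeparated f] [LocallyOfFiniteType f] [QuasiCompact f] [IsIntegral X] [IsIntegral Y]
    [IsNoetherian Y] (hY : Pi1.IsNormalScheme Y)
    (hfib : ∀ (Ω : Type u) [Field Ω] [IsAlgClosed Ω] (y : Spec (CommRingCat.of Ω) ⟶ Y),
      IsProper (pullback.snd f y) ∧ ConnectedSpace ↥(pullback f y)) :
    IsProper f := by
  obtain ⟨Xn, jn, gn, _, _, _, hn⟩ := Groth.Agent.S0384.result f
  haveI : IrreducibleSpace ↥jn.image := by
    have h := (IrreducibleSpace.isIrreducible_univ X).image jn.toImage jn.toImage.continuous.continuousOn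
    rw [Set.image_univ] at h
    have h' := h.closure
    rw [jn.toImage.denseRange.closure_range] at h'
    exact (irreducibleSpace_def _).2 h'
  haveI : IsReduced jn.image := Groth.L20.Chevalley.isReduced_image jn
  haveI : IsIntegral jn.image := isIntegral_of_irreducibleSpace_of_isReduced _
  let Xc := jn.image
  let j : X ⟶ Xc := jn.toImage
  let g : Xc ⟶ Y := jn.imageι ≫ gn
  have hjg : j ≫ g = f := by simp [j, g, hn]
  haveI : IsOpenImmersion j := inferInstance
  haveI : IsDominant j := inferInstance
  haveI : IsProper g := inferInstance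
  haveI : Surjective f := ⟨fun y => by
    obtain ⟨hp, hc⟩ := hfib (AlgebraicClosure (Y.residueField y))
      (Spec.map (CommRingCat.ofHom (algebraMap (Y.residueField y) (AlgebraicClosure (Y.residueField y)))) ≫
        Y.fromSpecResidueField y)
    obtain ⟨q⟩ := hc.toNonempty
    refine ⟨pullback.fst f _ q, ?_⟩
    rw [← Scheme.Hom.comp_apply, pullback.condition, Scheme.Hom.comp_apply, Scheme.Hom.comp_apply]
    exact Scheme.fromSpecResidueField_apply y _⟩
  haveI : Nonempty X := inferInstance
  haveI : IsDominant g := ⟨by
    refine Dense.mono ?_ (Function.Surjective.denseRange (Scheme.Hom.surjective f))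
    rintro _ ⟨x, rfl⟩
    exact ⟨j x, by rw [← Scheme.Hom.comp_apply, hjg]⟩⟩
  have hgen : GeometricallyConnected (g.fiberToSpecResidueField (genericPoint Y)) := by
    refine geometricallyConnected_of_algClosed _ fun Ω _ _ t => ?_
    let t' := t ≫ Y.fromSpecResidueField (genericPoint Y)
    have hfr : Flat (Y.fromSpecResidueField (genericPoint Y)) := by
      letI : Field (Y.presheaf.stalk (genericPoint Y)) := inferInstanceAs (Field Y.functionField)
      haveI : IsIso (Y.residue (genericPoint Y)) := by
        refine (ConcreteCategory.isIso_iff_bijective _).2 ⟨?_, IsLocalRing.residue_surjective⟩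
        exact (Y.residue (genericPoint Y)).hom.injective
      unfold Scheme.fromSpecResidueField
      haveI : Flat (Y.fromSpecStalk (genericPoint Y)) := Groth.L05.Point.flat_fromSpecStalk _
      infer_instance
    have hft : Flat t := by
      obtain ⟨φ, rfl⟩ := Spec.map_surjective t
      rw [HasRingHomProperty.Spec_iff (P := @Flat)]
      letI := φ.hom.toAlgebra
      exact Module.Flat.of_free
    haveI : Flat t' := MorphismProperty.comp_mem @Flat t (Y.fromSpecResidueField (genericPoint Y)) hft hfr
    haveI := (hfib Ω t').1
    haveI := (hfib Ω t').2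
    haveI : ConnectedSpace ↥(pullback g t') :=
      (surjective_fibreMap_generic f g j hjg t').connectedSpace (fibreMap f g j hjg t').continuous
    exact ((pullbackLeftPullbackSndIso g (Y.fromSpecResidueField (genericPoint Y)) t).hom.homeomorph.connectedSpace_iff).2
      (inferInstanceAs (ConnectedSpace ↥(pullback g t')))
  haveI : GeometricallyConnected g := Groth.Agent.S7803.result g (fun s => by
    haveI := (hY s).2
    exact isGeomUnibranch_of_isIntegrallyClosed _) hgen
  have hsurj : Function.Surjective j := by
    intro z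
    let t := Spec.map (CommRingCat.ofHom (algebraMap (Y.residueField (g z)) (AlgebraicClosure (Y.residueField (g z))))) ≫
      Y.fromSpecResidueField (g z)
    haveI := (hfib _ t).1
    haveI := (hfib _ t).2
    haveI : ConnectedSpace ↥(pullback g t) := GeometricallyConnected.geometrically_connectedSpace _ _ _ (.of_hasPullback _ _)
    obtain ⟨-, hcl⟩ := range_fibreMap_clopen f g j hjg t
    have huniv := hcl.eq_univ (Set.range_nonempty _)
    have hzt : ∀ p, g z = t p := fun p => (Scheme.fromSpecResidueField_apply (g z) _).symm
    obtain ⟨w, hw, -⟩ := Scheme.Pullback.exists_preimage_pullback (f := g) (g := t) z default (hzt _)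
    obtain ⟨w', hw'⟩ : w ∈ Set.range (fibreMap f g j hjg t) := huniv ▸ Set.mem_univ w
    refine ⟨pullback.fst f t w', ?_⟩
    refine Eq.trans ?_ ((congrArg (pullback.fst g t) hw').trans hw)
    have he : pullback.fst f t ≫ j = fibreMap f g j hjg t ≫ pullback.fst g t := (pullback.lift_fst _ _ _).symm
    exact congrArg (fun m => m w') he
  haveI : Surjective j := ⟨hsurj⟩
  haveI : IsIso j := by
    rw [isIso_iff_isOpenImmersion_and_epi_base]
    exact ⟨inferInstance, (TopCat.epi_iff_surjective _).2 hsurj⟩
  rw [← hjg]
  infer_instance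

end Groth.L27.ProperFibres
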